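import Mathlib
import Groth.Agent.S5129
import Groth.Agent.S5130
import Groth.Agent.HensPair.SteinNormalization
import Groth.Agent.CohFin.ProjFinite
import Groth.Agent.EtaleAlgebra.SmoothQuasiFinite
import Groth.Agent.Calg4.SmoothDescPoint
import Groth.Agent.Variety2.EtaleLocus
import Groth.Agent.Calg1.Completion
import Groth.Agent.Calg6.LimitFlatComplete
import Groth.Prelude.Def_Pi1X

/-! The canonical morphism to the base change of a Stein factor is an isomorphism near points of the
Stein factor over which the covering is étale with split geometric fibre. -/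

set_option autoImplicit false
set_option backward.isDefEq.respectTransparency false
set_option backward.isDefEq.respectTransparency.types false
set_option linter.style.haveILetI false
set_option maxHeartbeats 1000000

universe u

open CategoryTheory CategoryTheory.Limits AlgebraicGeometry TopologicalSpace

namespace Groth.SteinComp

/-- A smooth locally quasi-finite morphism is étale. -/
theorem etale_of_smooth_of_lqf {X Y : Scheme.{u}} (f : X ⟶ Y) [Smooth f] [LocallyQuasiFinite f] :
    Etale f := by
  rw [HasRingHomProperty.iff_appLE (P := @Etale)]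
  intro U V e
  have h1 := f.smooth_appLE U.2 V.2 e
  have h2 : (f.appLE U.1 V.1 e).hom.QuasiFinite :=
    HasRingHomProperty.appLE (@LocallyQuasiFinite) f ‹_› U V e
  algebraize [(f.appLE U.1 V.1 e).hom]
  exact RingHom.etale_algebraMap.2
    (Groth.Agent.EtaleAlgebra.SmoothQuasiFinite.etale_of_smooth_of_quasiFinite Γ(Y, U) Γ(X, V))

/-- A quasi-compact closed morphism with trivial direct image of functions is surjective. -/
theorem surjective_of_isIso_app {X Y : Scheme.{u}} (π : X ⟶ Y) [UniversallyClosed π]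
    (h : ∀ V : Y.Opens, IsAffineOpen V → IsIso (π.app V)) : Surjective π := by
  refine ⟨fun y => ?_⟩
  by_contra hy
  let O : Y.Opens := ⟨(Set.range π.base)ᶜ, π.isClosedMap.isClosed_range.isOpen_compl⟩
  obtain ⟨_, ⟨V, hV, rfl⟩, hyV, hVO⟩ :=
    Y.isBasis_affineOpens.exists_subset_of_mem_open (show y ∈ O from hy) O.2
  have hbot : π ⁻¹ᵁ V = ⊥ := by
    ext x
    exact ⟨fun hx => (hVO hx ⟨x, rfl⟩).elim, False.elim⟩
  have := h V hV
  haveI : Subsingleton Γ(X, π ⁻¹ᵁ V) := by
    rw [hbot]
    infer_instance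
  haveI : Subsingleton Γ(Y, V) :=
    (ConcreteCategory.bijective_of_isIso (π.app V)).1.subsingleton
  haveI : Nonempty V := ⟨⟨y, hyV⟩⟩
  haveI : Nonempty (Spec Γ(Y, V)) := ⟨hV.isoSpec.hom.base (Classical.arbitrary _)⟩
  haveI : Nontrivial Γ(Y, V) := PrimeSpectrum.nonempty_iff_nontrivial.1 ‹Nonempty (Spec Γ(Y, V))›
  exact not_subsingleton Γ(Y, V) inferInstance

/-- Trivial direct image of functions persists under flat base change to an affine scheme. -/
theorem isIso_appTop_baseChange {X Y X' Y' : Scheme.{u}} {π : X ⟶ Y} [QuasiCompact π] [QuasiSeparated π]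
    {b : Y' ⟶ Y} [Flat b] [IsAffine Y'] {a : X' ⟶ X} {π' : X' ⟶ Y'} (h : IsPullback a π' π b)
    {V : Y.Opens} (hV : IsAffineOpen V) (hb : ∀ y, b.base y ∈ V) (hiso : IsIso (π.app V)) :
    IsIso π'.appTop := by
  have htop : (⊤ : Y'.Opens) ≤ b ⁻¹ᵁ V := fun y _ => hb y
  have hc : IsCompact (π ⁻¹ᵁ V : Set X) := π.isCompact_preimage hV.isCompact
  have hq : IsQuasiSeparated (π ⁻¹ᵁ V : Set X) := π.isQuasiSeparated_preimage hV.isQuasiSeparated
  have hiso' := isIso_pushoutSection_of_isQuasiSeparated_of_flat_right h (US := V) (UT := ⊤)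
    (UX := π ⁻¹ᵁ V) (hUST := htop) (hUSX := le_rfl) (UY := ⊤)
    (by
      refine (top_le_iff.1 ?_).symm
      rintro x -
      exact ⟨show π.base (a.base x) ∈ V by rw [← Scheme.Hom.comp_apply, h.w]; exact hb _, trivial⟩)
    hV (isAffineOpen_top _) hc hq
  have hp := (isIso_pushoutSection_iff ..).1 hiso'
  haveI : IsIso (π.appLE V (π ⁻¹ᵁ V) le_rfl) := by rwa [← Scheme.Hom.app_eq_appLE]
  have := hp.isIso_inr_of_isIso inferInstance
  change IsIso (π'.app ⊤)
  rw [Scheme.Hom.app_eq_appLE]
  exact this

/-- In a fibre product over the clopen piece at a point, the section over the geometric fibre gives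
the descent of the piece: it is a base change from the complete local base. -/
theorem isPullback_of_complete (A : Type u) [CommRing A]
    [IsNoetherianRing A] [IsLocalRing A] [IsAdicComplete (IsLocalRing.maximalIdeal A) A]
    {X W D : Scheme.{u}} (f : X ⟶ Spec (CommRingCat.of A)) [IsProper f] [GeometricallyConnected f]
    (hΓ : ∀ (R : Scheme.{u}) [IsAffine R] (r : R ⟶ Spec (CommRingCat.of A)) [Flat r],
      IsIso (pullback.snd f r).appTop)
    (g : W ⟶ X) [IsFinite g] [Etale g] (π : W ⟶ D) [IsAffine D] (δ : D ⟶ Spec (CommRingCat.of A))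
    (hw : g ≫ f = π ≫ δ) [IsIso π.appTop] [ConnectedSpace W]
    (σ : pullback f (Spec.map (CommRingCat.ofHom ((algebraMap (IsLocalRing.ResidueField A)
      (AlgebraicClosure (IsLocalRing.ResidueField A))).comp (IsLocalRing.residue A)))) ⟶ W)
    (hσ : σ ≫ g = pullback.fst f _) :
    Etale δ ∧ IsPullback g π f δ := by
  let ξ := Spec.map (CommRingCat.ofHom ((algebraMap (IsLocalRing.ResidueField A)
    (AlgebraicClosure (IsLocalRing.ResidueField A))).comp (IsLocalRing.residue A)))
  haveI : ConnectedSpace ↥(pullback f ξ) :=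
    GeometricallyConnected.connectedSpace_of_subsingleton (f := pullback.snd f ξ)
  let W' : FEt.Cat X := MorphismProperty.Over.mk ⊤ g ⟨‹_›, ‹_›⟩
  haveI : ConnectedSpace W'.left := ‹ConnectedSpace W›
  obtain ⟨T, ⟨e⟩⟩ := Groth.Agent.S5130.result A f ξ rfl W' σ hσ
  haveI : IsFinite T.hom := T.prop.1
  haveI : Etale T.hom := T.prop.2
  haveI : IsAffine T.left :=
    @isAffine_of_isAffineHom _ _ T.hom inferInstance
      (inferInstanceAs (IsAffine (Spec (CommRingCat.of A))))
  let p : ((FEt.restrict f).obj T).left ⟶ T.left := pullback.fst T.hom f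
  let q : ((FEt.restrict f).obj T).left ⟶ X := pullback.snd T.hom f
  have hpq : IsPullback q p f T.hom := (IsPullback.of_hasPullback T.hom f).flip
  haveI : IsIso p.appTop := by
    have := hΓ T.left T.hom
    have he : p = hpq.isoPullback.hom ≫ pullback.snd f T.hom := hpq.isoPullback_hom_snd.symm
    rw [he, Scheme.Hom.comp_appTop]
    infer_instance
  let eW : ((FEt.restrict f).obj T).left ≅ W :=
    (MorphismProperty.Over.forget _ ⊤ X ⋙ Over.forget X).mapIso e
  have heW : eW.hom ≫ g = q := Over.w e.hom.hom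
  let φ : Γ(D, ⊤) ⟶ Γ(T.left, ⊤) := π.appTop ≫ eW.hom.appTop ≫ inv p.appTop
  haveI : IsIso φ := inferInstance
  let α : T.left ⟶ D := T.left.isoSpec.hom ≫ Spec.map φ ≫ D.isoSpec.inv
  have hα : α.appTop = φ := by
    have h1 : α ≫ D.isoSpec.hom = T.left.isoSpec.hom ≫ Spec.map φ := by simp [α]
    have h2 := congrArg (fun m => m.appTop) h1
    simp only [Scheme.Hom.comp_appTop, Scheme.isoSpec_hom, Scheme.toSpecΓ_appTop] at h2
    rw [Scheme.ΓSpecIso_naturality, cancel_epi] at h2
    exact h2
  haveI : IsIso α := inferInstance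
  have hpα : p ≫ α = eW.hom ≫ π := ext_of_isAffine (by simp [hα, φ])
  have hαδ : α ≫ δ = T.hom := by
    refine ext_of_isAffine ?_
    rw [← cancel_mono p.appTop, ← Scheme.Hom.comp_appTop, ← Scheme.Hom.comp_appTop]
    congr 1
    rw [← Category.assoc, hpα, Category.assoc, ← hw, ← Category.assoc, heW, hpq.w]
  have hδ : δ = inv α ≫ T.hom := by rw [← hαδ, IsIso.inv_hom_id_assoc]
  refine ⟨by rw [hδ]; infer_instance, ?_⟩
  exact hpq.of_iso eW (Iso.refl _) (asIso α) (Iso.refl _) (by simpa using heW.symm) (by simpa using hpα)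
    (by simp) (by simpa using hαδ.symm)

end Groth.SteinComp
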