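import Groth.Agent.SteinComp.Basic

/-! Near a point of the Stein factor with étale, geometrically split fibre the canonical morphism
to the base change is an isomorphism and the Stein factor is étale. -/

set_option autoImplicit false
set_option backward.isDefEq.respectTransparency false
set_option backward.isDefEq.respectTransparency.types false
set_option linter.style.haveILetI false
set_option maxHeartbeats 1000000

universe u

open CategoryTheory CategoryTheory.Limits AlgebraicGeometry TopologicalSpace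

namespace Groth.SteinComp

theorem mem_etaleLocus_iff {X Y : Scheme.{u}} (f : X ⟶ Y) (x : X) :
    x ∈ Pi1X.etaleLocus f ↔ ∃ U : X.Opens, x ∈ U ∧ Etale (U.ι ≫ f) := by
  refine ⟨fun h => ?_, fun ⟨U, hx, hU⟩ => Opens.mem_sSup.2 ⟨U, hU, hx⟩⟩
  obtain ⟨U, hU, hx⟩ := Opens.mem_sSup.1 h
  exact ⟨U, hx, hU⟩

theorem etale_ι_of_le {X Y : Scheme.{u}} (f : X ⟶ Y) {U : X.Opens} (h : U ≤ Pi1X.etaleLocus f) :
    Etale (U.ι ≫ f) := by
  refine IsZariskiLocalAtSource.of_openCover (P := @Etale)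
    (Scheme.openCoverOfIsOpenCover (U : Scheme.{u})
      (fun W : {W : X.Opens // Etale (W.ι ≫ f)} => U.ι ⁻¹ᵁ W.1) ?_) fun W => ?_
  · rw [IsOpenCover, eq_top_iff]
    intro x _
    obtain ⟨W, hx, hW⟩ := (mem_etaleLocus_iff f x.1).1 (h x.2)
    exact Opens.mem_iSup.2 ⟨⟨W, hW⟩, hx⟩
  · haveI := W.2
    change Etale ((U.ι ⁻¹ᵁ W.1).ι ≫ U.ι ≫ f)
    rw [← Category.assoc, show (U.ι ⁻¹ᵁ W.1).ι ≫ U.ι = (U.ι ∣_ W.1) ≫ W.1.ι from
      (morphismRestrict_ι U.ι W.1).symm, Category.assoc]
    infer_instance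

theorem exists_nhd_of_split {X X' N S : Scheme.{u}} [IsLocallyNoetherian S] (f : X ⟶ S) [IsProper f]
    (hO : ∀ U : S.Opens, IsAffineOpen U → IsIso (f.app U)) (g : X' ⟶ X) [IsProper g]
    (π : X' ⟶ N) [IsProper π] (ν : N ⟶ S) [IsFinite ν] (hw : π ≫ ν = g ≫ f)
    (hπ : ∀ V : N.Opens, IsAffineOpen V → IsIso (π.app V))
    (c : X' ⟶ pullback f ν) (hc1 : c ≫ pullback.fst f ν = g) (hc2 : c ≫ pullback.snd f ν = π)
    (s' : N) (hg : ∀ x', π.base x' = s' → x' ∈ Pi1X.etaleLocus g)
    (hgeom : ∀ (L : Type u) [Field L] [IsAlgClosed L] (ζ : Spec (CommRingCat.of L) ⟶ S),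
      (∀ t, ζ.base t = ν.base s') → ∃ σ : pullback f ζ ⟶ X', σ ≫ g = pullback.fst f ζ ∧
        ∀ p, π.base (σ.base p) = s') :
    ∃ U : N.Opens, s' ∈ U ∧ Etale (U.ι ≫ ν) ∧
      IsIso (c ∣_ ((pullback.snd f ν) ⁻¹ᵁ U)) := by
  classical
  let s : S := ν.base s'
  haveI : GeometricallyConnected f :=
    Groth.HensPair.geometricallyConnected_of_isIso_app f Groth.CohFin.projFinite hO
  haveI : GeometricallyConnected π :=
    Groth.HensPair.geometricallyConnected_of_isIso_app π Groth.CohFin.projFinite hπ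
  -- the complete local base
  let O := S.presheaf.stalk s
  let A := AdicCompletion (IsLocalRing.maximalIdeal O) O
  haveI : IsNoetherianRing A :=
    Groth.Calg1.isNoetherianRing_adicCompletion _ (IsNoetherian.noetherian _)
  haveI := Groth.Calg6.LimitFlat.faithfullyFlat_completion O
  let T := Spec (CommRingCat.of A)
  let ι₀ : CommRingCat.of O ⟶ CommRingCat.of A := CommRingCat.ofHom (algebraMap O A)
  haveI : Flat (Spec.map ι₀) :=
    (HasRingHomProperty.Spec_iff (P := @Flat)).2 (RingHom.flat_algebraMap_iff.2 inferInstance)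
  haveI := Groth.Calg4.flat_fromSpecStalk S s
  let b : T ⟶ S := Spec.map ι₀ ≫ S.fromSpecStalk s
  haveI : Flat b := inferInstance
  let t : T := IsLocalRing.closedPoint A
  have hbt : b.base t = s := by
    have h : (Spec.map ι₀).base t = IsLocalRing.closedPoint O := by
      apply PrimeSpectrum.ext
      haveI : IsLocalHom (algebraMap O A) := ⟨fun x hx => by
        by_contra hna
        have h1 : algebraMap O A x ∈ (IsLocalRing.maximalIdeal O).map (algebraMap O A) :=
          Ideal.mem_map_of_mem _ hna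
        rw [← AdicCompletion.maximalIdeal_eq_map] at h1
        exact h1 hx⟩
      exact IsLocalRing.maximalIdeal_comap (algebraMap O A)
    show (S.fromSpecStalk s).base ((Spec.map ι₀).base t) = s
    rw [h, Scheme.fromSpecStalk_closedPoint]
  have hbrange : ∀ y, b.base y ⤳ s := fun y => by
    rw [← hbt]
    exact (IsLocalRing.specializes_closedPoint y).map b.continuous
  obtain ⟨_, ⟨U₀, hU₀, rfl⟩, hsU₀, -⟩ :=
    S.isBasis_affineOpens.exists_subset_of_mem_open (Set.mem_univ s) isOpen_univ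
  have hbU₀ : ∀ y, b.base y ∈ U₀ := fun y => (hbrange y).mem_open U₀.2 hsU₀
  -- base change
  let fT := pullback.snd f b
  let νT := pullback.snd ν b
  let bN := pullback.fst ν b
  let πT := pullback.snd π bN
  let a := pullback.fst π bN
  haveI : IsAffine (pullback ν b) := isAffine_of_isAffineHom νT
  let gT : pullback π bN ⟶ pullback f b := pullback.lift (a ≫ g) (πT ≫ νT) (by
    simp only [a, πT, νT, bN, Category.assoc, ← hw]
    rw [pullback.condition_assoc, pullback.condition])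
  have hgT : IsPullback a gT g (pullback.fst f b) := by
    refine IsPullback.of_bot ?_ (pullback.lift_fst _ _ _).symm (IsPullback.of_hasPullback f b)
    rw [pullback.lift_snd, ← hw]
    exact (IsPullback.of_hasPullback π bN).paste_vert (IsPullback.of_hasPullback ν b)
  haveI : IsProper gT := MorphismProperty.of_isPullback hgT ‹IsProper g›
  haveI : IsAffine T := inferInstanceAs (IsAffine (Spec _))
  -- the section over the geometric closed fibre
  let Ω := AlgebraicClosure (IsLocalRing.ResidueField A)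
  let ξ : Spec (CommRingCat.of Ω) ⟶ T := Spec.map (CommRingCat.ofHom
    ((algebraMap (IsLocalRing.ResidueField A) Ω).comp (IsLocalRing.residue A)))
  have hξ : ∀ z, ξ.base z = t := fun z => by
    apply PrimeSpectrum.ext
    show Ideal.comap _ z.asIdeal = IsLocalRing.maximalIdeal A
    rw [(Ideal.eq_bot_or_top z.asIdeal).resolve_right z.isPrime.ne_top, ← RingHom.ker_eq_comap_bot,
      CommRingCat.hom_ofHom,
      RingHom.ker_comp_of_injective _ (algebraMap (IsLocalRing.ResidueField A) Ω).injective,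
      IsLocalRing.ker_residue]
  obtain ⟨σ, hσg, hσs⟩ := hgeom Ω (ξ ≫ b) fun z => by rw [Scheme.Hom.comp_apply, hξ, hbt]
  haveI : ConnectedSpace ↥(pullback fT ξ) :=
    GeometricallyConnected.connectedSpace_of_subsingleton (f := pullback.snd fT ξ)
  let P := pullback fT ξ
  let m₀ : P ⟶ pullback f (ξ ≫ b) := pullback.lift (pullback.fst fT ξ ≫ pullback.fst f b)
    (pullback.snd fT ξ) (by
      rw [Category.assoc, pullback.condition, ← pullback.condition_assoc])
  let σN : P ⟶ pullback ν b := pullback.lift (m₀ ≫ σ ≫ π) (pullback.snd fT ξ ≫ ξ) (by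
    rw [Category.assoc, Category.assoc, hw, ← Category.assoc σ, hσg, ← Category.assoc,
      pullback.lift_fst, Category.assoc, pullback.condition, ← Category.assoc, pullback.condition])
  let σT : P ⟶ pullback π bN := pullback.lift (m₀ ≫ σ) σN (by
    rw [pullback.lift_fst, Category.assoc])
  let p₀ : P := Classical.arbitrary _
  let q : ↥(pullback ν b) := σN.base p₀
  have hσNfst : ∀ p, bN.base (σN.base p) = s' := fun p => by
    rw [← Scheme.Hom.comp_apply, pullback.lift_fst]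
    exact hσs _
  have hσNsnd : ∀ p, νT.base (σN.base p) = t := fun p => by
    rw [← Scheme.Hom.comp_apply, pullback.lift_snd, Scheme.Hom.comp_apply, hξ]
  have hq : bN.base q = s' := hσNfst p₀
  haveI : HenselianLocalRing A := Groth.Hensel1.henselianLocalRing_of_henselianRing
  obtain ⟨Dset, hDc, hqD, hDu⟩ := Groth.Agent.S5129.exists_clopen_scheme A νT q (hσNsnd p₀)
  let Dop : (pullback ν b).Opens := ⟨Dset, hDc.isOpen⟩
  -- every non-empty closed subset of the piece contains the point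
  have hclosed : ∀ K : Set ↥(pullback ν b), IsClosed K → K ⊆ Dset → K.Nonempty → q ∈ K := by
    intro K hK hKD hne
    have him : IsClosed (νT.base '' K) := νT.isClosedMap _ hK
    obtain ⟨k, hk⟩ := hne
    obtain ⟨z, hz, hzt⟩ : t ∈ νT.base '' K :=
      (IsLocalRing.specializes_closedPoint (νT.base k)).mem_closed him ⟨k, hk, rfl⟩
    rwa [← hDu z (hKD hz) hzt]
  let X₁ : (pullback π bN).Opens := πT ⁻¹ᵁ Dop
  have hX₁L : X₁ ≤ a ⁻¹ᵁ Pi1X.etaleLocus g := by
    by_contra hne
    obtain ⟨x, hx, hxL⟩ := SetLike.not_le_iff_exists.1 hne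
    have hK : IsClosed ((X₁ : Set ↥(pullback π bN)) \ (a ⁻¹ᵁ Pi1X.etaleLocus g)) :=
      (hDc.isClosed.preimage πT.continuous).sdiff (a ⁻¹ᵁ Pi1X.etaleLocus g).2
    obtain ⟨z, hz, hzq⟩ := hclosed _ (πT.isClosedMap _ hK)
      (Set.image_subset_iff.2 fun z hz => hz.1) ⟨_, x, ⟨hx, hxL⟩, rfl⟩
    refine hz.2 (hg _ ?_)
    rw [← Scheme.Hom.comp_apply, pullback.condition, Scheme.Hom.comp_apply, hzq, hq]
  let g₁ : (X₁ : Scheme.{u}) ⟶ pullback f b := X₁.ι ≫ gT
  haveI : IsClosedImmersion X₁.ι := .of_isPreimmersion _ (by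
    rw [Scheme.Opens.range_ι]; exact hDc.isClosed.preimage πT.continuous)
  haveI : IsClosedImmersion Dop.ι := .of_isPreimmersion _ (by
    rw [Scheme.Opens.range_ι]; exact hDc.isClosed)
  haveI : IsAffine (Dop : Scheme.{u}) := isAffine_of_isAffineHom Dop.ι
  haveI : Etale g₁ := by
    haveI : Etale ((Pi1X.etaleLocus g).ι ≫ g) := etale_ι_of_le g le_rfl
    haveI : Etale ((a ⁻¹ᵁ Pi1X.etaleLocus g).ι ≫ gT) :=
      MorphismProperty.of_isPullback
        ((isPullback_morphismRestrict a (Pi1X.etaleLocus g)).paste_vert hgT) ‹_›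
    show Etale (X₁.ι ≫ gT)
    rw [← Scheme.homOfLE_ι _ hX₁L, Category.assoc]
    infer_instance
  haveI : IsFinite g₁ := (IsFinite.iff_isProper_and_locallyQuasiFinite g₁).2 ⟨inferInstance, inferInstance⟩
  let π₁ : (X₁ : Scheme.{u}) ⟶ Dop := πT ∣_ Dop
  let δ : (Dop : Scheme.{u}) ⟶ T := Dop.ι ≫ νT
  have hπ₁ : IsPullback (X₁.ι ≫ a) π₁ π (Dop.ι ≫ bN) :=
    (isPullback_morphismRestrict πT Dop).flip.paste_horiz (IsPullback.of_hasPullback π bN)
  haveI : IsIso π₁.appTop := isIso_appTop_baseChange hπ₁ (hU₀.preimage ν) (fun y => by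
    show ν.base _ ∈ U₀
    rw [← Scheme.Hom.comp_apply, Category.assoc, pullback.condition, Scheme.Hom.comp_apply,
      Scheme.Hom.comp_apply]
    exact hbU₀ _) (hπ _ (hU₀.preimage ν))
  haveI : Surjective π := surjective_of_isIso_app π hπ
  haveI : GeometricallyConnected π₁ := MorphismProperty.of_isPullback hπ₁ ‹_›
  haveI : Surjective π₁ := MorphismProperty.of_isPullback hπ₁ ‹_›
  haveI : IsProper π₁ := MorphismProperty.of_isPullback hπ₁ ‹_›
  haveI : ConnectedSpace ↥(X₁ : Scheme.{u}) := by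
    have hfib := π₁.isConnected_preimage_singleton ⟨q, hqD⟩
    have hmeet : ∀ K : Set ↥(X₁ : Scheme.{u}), IsClosed K → K.Nonempty →
        ∃ x ∈ K, π₁.base x = ⟨q, hqD⟩ := fun K hK hne => by
      obtain ⟨x, hx, hxq⟩ := hclosed _ (Dop.ι.isClosedMap _ (π₁.isClosedMap _ hK))
        (Set.image_subset_iff.2 fun z _ => z.2) ((hne.image _).image _)
      obtain ⟨k, hk, rfl⟩ := hx
      exact ⟨k, hk, Subtype.ext hxq⟩
    refine connectedSpace_iff_clopen.2 ⟨?_, fun K hK => ?_⟩
    · obtain ⟨x, -⟩ := π₁.surjective ⟨q, hqD⟩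
      exact ⟨x⟩
    · by_contra! hcon
      obtain ⟨hK0, hK1⟩ := hcon
      obtain ⟨x, hxK, hx⟩ := hmeet K hK.isClosed hK0
      obtain ⟨y, hyK, hy⟩ := hmeet Kᶜ hK.isOpen.isClosed_compl (Set.nonempty_compl.2 hK1)
      exact hyK (hfib.isPreconnected.subset_isClopen hK ⟨x, hx, hxK⟩ hy)
  have hrange : ∀ p, σN.base p ∈ Dset := by
    have := (hDc.preimage σN.continuous).eq_univ ⟨p₀, hqD⟩
    intro p
    exact Set.eq_univ_iff_forall.1 this p
  let σ₁ : P ⟶ X₁ := IsOpenImmersion.lift X₁.ι σT (by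
    rw [Scheme.Opens.range_ι]
    rintro _ ⟨p, rfl⟩
    show πT.base (σT.base p) ∈ Dset
    rw [← Scheme.Hom.comp_apply, pullback.lift_snd]
    exact hrange p)
  have hσ₁ : σ₁ ≫ g₁ = pullback.fst fT ξ := by
    rw [← Category.assoc, IsOpenImmersion.lift_fac]
    apply pullback.hom_ext
    · rw [Category.assoc, pullback.lift_fst, pullback.lift_fst_assoc, Category.assoc, hσg,
        pullback.lift_fst]
    · rw [Category.assoc, pullback.lift_snd, pullback.lift_snd_assoc, pullback.lift_snd,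
        pullback.condition]
  obtain ⟨hδ, hpb⟩ := isPullback_of_complete A fT
    (fun R _ r _ => by
      exact isIso_appTop_baseChange (b := r ≫ b)
        ((IsPullback.of_hasPullback fT r).paste_horiz (IsPullback.of_hasPullback f b)) hU₀
        (fun y => hbU₀ _) (hO _ hU₀))
    g₁ π₁ δ (by
      show (X₁.ι ≫ gT) ≫ fT = π₁ ≫ Dop.ι ≫ νT
      rw [Category.assoc, pullback.lift_snd, ← Category.assoc π₁, morphismRestrict_ι, Category.assoc])
    σ₁ hσ₁
  have hbig : IsPullback (g₁ ≫ pullback.fst f b) π₁ f (δ ≫ b) :=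
    hpb.paste_horiz (IsPullback.of_hasPullback f b)
  let d : (Dop : Scheme.{u}) ⟶ N := Dop.ι ≫ bN
  have hdν : d ≫ ν = δ ≫ b := by simp [d, δ, νT, bN, pullback.condition]
  let q₀ : (Dop : Scheme.{u}) := ⟨q, hqD⟩
  have hq₀ : d.base q₀ = s' := hq
  have hag : (X₁.ι ≫ a) ≫ g = g₁ ≫ pullback.fst f b := by
    rw [Category.assoc, hgT.w, Category.assoc]
  -- étaleness of the Stein factor near the point
  haveI : LocallyOfFinitePresentation ν :=
    Groth.Variety2.locallyOfFinitePresentation_of_noetherian ν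
  have hsm : s' ∈ ν.smoothLocus := by
    rw [← hq]
    refine Groth.Calg4.mem_smoothLocus_of_baseChange_flat_at ν b q (Flat.stalkMap b _) ?_
    exact (Groth.Calg4.exists_smooth_nhd_iff νT q).1 ⟨Dop, hqD, (inferInstance : Smooth δ)⟩
  haveI : Smooth (ν.smoothLocus.ι ≫ ν) := by
    rw [← Scheme.Hom.smoothLocus_eq_top_iff, ← Scheme.Hom.preimage_smoothLocus_eq]
    exact top_le_iff.mp fun p _ => p.2
  -- properness
  haveI : IsProper (c ≫ pullback.fst f ν) := by rw [hc1]; infer_instance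
  haveI : IsProper c := IsProper.of_comp c (pullback.fst f ν)
  -- the diagonal over the etale locus
  let L := Pi1X.etaleLocus g
  haveI : Etale ((L.ι ≫ c) ≫ pullback.fst f ν) := by
    rw [Category.assoc, hc1]; exact etale_ι_of_le g le_rfl
  haveI : FormallyUnramified (L.ι ≫ c) := FormallyUnramified.of_comp _ (pullback.fst f ν)
  let ρ : (L : Scheme.{u}) ⟶ pullback c c := L.ι ≫ pullback.diagonal c
  haveI : IsOpenImmersion ρ := by
    have e : ρ = pullback.diagonal (L.ι ≫ c) ≫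
        pullback.map (L.ι ≫ c) (L.ι ≫ c) c c L.ι L.ι (𝟙 _) (by simp) (by simp) := by
      apply pullback.hom_ext <;> simp [ρ]
    rw [e]
    infer_instance
  have hρ : ∀ z : ↥(pullback c c), π.base ((pullback.fst c c).base z) = s' → z ∈ Set.range ρ.base := by
    intro z hz
    obtain ⟨r, hr, -⟩ := Scheme.Pullback.exists_preimage_pullback (f := pullback.fst c c ≫ π) (g := d)
      z q₀ (by rw [Scheme.Hom.comp_apply, hz, hq₀])
    let R := pullback (pullback.fst c c ≫ π) d
    let j₁ : R ⟶ X' := pullback.fst _ _ ≫ pullback.fst c c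
    let j₂ : R ⟶ X' := pullback.fst _ _ ≫ pullback.snd c c
    have hj : j₁ ≫ c = j₂ ≫ c := by simp [j₁, j₂, pullback.condition]
    have hj1 : j₁ ≫ π = pullback.snd _ _ ≫ d := by
      rw [Category.assoc]; exact pullback.condition
    have hj2 : j₂ ≫ π = pullback.snd _ _ ≫ d := by
      rw [← hj1, ← hc2, ← Category.assoc, ← hj, Category.assoc]
    let k₁ : R ⟶ X₁ := hπ₁.lift j₁ (pullback.snd _ _) hj1
    let k₂ : R ⟶ X₁ := hπ₁.lift j₂ (pullback.snd _ _) hj2
    have hk : k₁ = k₂ := hbig.hom_ext (by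
      rw [← hag, ← Category.assoc, ← Category.assoc k₂, IsPullback.lift_fst, IsPullback.lift_fst,
        ← hc1, ← Category.assoc, hj, Category.assoc]) (by simp [k₁, k₂])
    have hj' : j₁ = j₂ := by
      rw [← hπ₁.lift_fst j₁ _ hj1, ← hπ₁.lift_fst j₂ _ hj2]
      exact congrArg (· ≫ _) hk
    have he : (pullback.fst (pullback.fst c c ≫ π) d) = j₁ ≫ pullback.diagonal c := by
      apply pullback.hom_ext
      · simp [j₁]
      · rw [hj']; simp [j₂]
    refine ⟨⟨j₁.base r, hg _ ?_⟩, ?_⟩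
    · rw [Scheme.Hom.comp_apply, hr, hz]
    · conv_rhs => rw [← hr, he, Scheme.Hom.comp_apply]
      rfl
  have hsur : ∀ y : ↥(pullback f ν), (pullback.snd f ν).base y = s' →
      ∃ x, c.base x = y := by
    intro y hy
    obtain ⟨r, hr, -⟩ := Scheme.Pullback.exists_preimage_pullback (f := pullback.snd f ν) (g := d)
      y q₀ (hy.trans hq₀.symm)
    let k := hbig.lift (pullback.fst (pullback.snd f ν) d ≫ pullback.fst f ν) (pullback.snd _ _) (by
      rw [Category.assoc, pullback.condition, ← Category.assoc, pullback.condition, Category.assoc,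
        hdν])
    have hk : k ≫ (X₁.ι ≫ a) ≫ c = pullback.fst (pullback.snd f ν) d := by
      apply pullback.hom_ext
      · simp only [Category.assoc, hc1]
        rw [← Category.assoc X₁.ι, hag]
        exact hbig.lift_fst _ _ _
      · simp only [Category.assoc, hc2]
        rw [← Category.assoc X₁.ι, hπ₁.w, ← Category.assoc, IsPullback.lift_snd, pullback.condition]
    refine ⟨(k ≫ X₁.ι ≫ a).base r, ?_⟩
    rw [← Scheme.Hom.comp_apply, Category.assoc, hk, hr]
  -- the good open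
  let U₁ : N.Opens := ν.smoothLocus ⊓ ⟨(π.base '' (L : Set X')ᶜ)ᶜ,
    (π.isClosedMap _ L.2.isClosed_compl).isOpen_compl⟩
  have hsU₁ : s' ∈ U₁ := ⟨hsm, fun ⟨x, hx, hxs⟩ => hx (hg x hxs)⟩
  have hU₁L : π ⁻¹ᵁ U₁ ≤ L := fun x hx => by_contra fun h => hx.2 ⟨x, h, rfl⟩
  have hν : ∀ U : N.Opens, U ≤ U₁ → Etale (U.ι ≫ ν) := fun U hU => by
    haveI : Smooth (U.ι ≫ ν) := by
      rw [← Scheme.homOfLE_ι _ (hU.trans inf_le_left), Category.assoc]; infer_instance
    exact etale_of_smooth_of_lqf _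
  have hcU : ∀ U : N.Opens, U ≤ U₁ → Etale (c ∣_ ((pullback.snd f ν) ⁻¹ᵁ U)) := fun U hU => by
    let V := (pullback.snd f ν) ⁻¹ᵁ U
    haveI := hν U hU
    haveI : Etale (V.ι ≫ pullback.fst f ν) := MorphismProperty.of_isPullback
      ((isPullback_morphismRestrict (pullback.snd f ν) U).paste_vert
        (IsPullback.of_hasPullback f ν).flip) ‹Etale (U.ι ≫ ν)›
    haveI : Etale ((c ∣_ V) ≫ V.ι ≫ pullback.fst f ν) := by
      rw [morphismRestrict_ι_assoc, hc1]
      refine etale_ι_of_le g fun x hx => hU₁L ?_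
      show π.base x ∈ U₁
      rw [← hc2, Scheme.Hom.comp_apply]
      exact hU hx
    exact Etale.of_comp (c ∣_ V) (V.ι ≫ pullback.fst f ν)
  let V₁ := (pullback.snd f ν) ⁻¹ᵁ U₁
  haveI := hcU U₁ le_rfl
  let c₁ := (c ∣_ V₁) ≫ V₁.ι
  have hopen : IsOpen (Set.range c₁.base) := c₁.isOpenMap.isOpen_range
  haveI : IsProper (pullback.fst c c ≫ π) := inferInstance
  have hc₁Z : IsClosedMap (pullback.fst c c ≫ π).base := Scheme.Hom.isClosedMap _
  haveI : IsProper (pullback.snd f ν) := inferInstance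
  let U : N.Opens := U₁ ⊓ ⟨((pullback.fst c c ≫ π).base '' (Set.range ρ.base)ᶜ)ᶜ,
    (hc₁Z _ ρ.opensRange.2.isClosed_compl).isOpen_compl⟩ ⊓
    ⟨((pullback.snd f ν).base '' (Set.range c₁.base)ᶜ)ᶜ,
      ((pullback.snd f ν).isClosedMap _ hopen.isClosed_compl).isOpen_compl⟩
  have hUU₁ : U ≤ U₁ := inf_le_left.trans inf_le_left
  refine ⟨U, ⟨⟨hsU₁, ?_⟩, ?_⟩, hν U hUU₁, ?_⟩
  · rintro ⟨z, hz, hzs⟩
    exact hz (hρ z (by rw [← Scheme.Hom.comp_apply, hzs]))
  · rintro ⟨y, hy, hys⟩
    obtain ⟨x, hx⟩ := hsur y hys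
    refine hy ⟨⟨x, ?_⟩, ?_⟩
    · show (pullback.snd f ν).base (c.base x) ∈ U₁
      rw [hx, hys]
      exact hsU₁
    · show ((c ∣_ V₁) ≫ V₁.ι).base _ = y
      rw [morphismRestrict_ι]
      exact hx
  let V := (pullback.snd f ν) ⁻¹ᵁ U
  haveI := hcU U hUU₁
  haveI : Surjective (c ∣_ V) := ⟨fun y => by
    have hyr : (y.1 : ↥(pullback f ν)) ∈ Set.range c₁.base := by
      by_contra h
      exact y.2.2 ⟨y.1, h, rfl⟩
    obtain ⟨x, hx⟩ := hyr
    change ((c ∣_ V₁) ≫ V₁.ι).base x = _ at hx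
    rw [morphismRestrict_ι, Scheme.Hom.comp_apply] at hx
    refine ⟨⟨x.1, ?_⟩, Subtype.ext ?_⟩
    · show c.base x.1 ∈ V
      rw [show c.base x.1 = y.1 from hx]
      exact y.2
    · exact (morphismRestrict_base_coe c V _).trans hx⟩
  haveI : Mono (c ∣_ V) := ⟨fun {R} k₁ k₂ hk => by
    rw [← cancel_mono (c ⁻¹ᵁ V).ι]
    have hk' : (k₁ ≫ (c ⁻¹ᵁ V).ι) ≫ c = (k₂ ≫ (c ⁻¹ᵁ V).ι) ≫ c := by
      simp only [Category.assoc, ← morphismRestrict_ι]
      rw [← Category.assoc, hk, Category.assoc]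
    let l : R ⟶ pullback c c := pullback.lift _ _ hk'
    have hl : Set.range l.base ⊆ Set.range ρ.base := by
      rintro _ ⟨r, rfl⟩
      by_contra h
      refine ((k₁.base r).2 : c.base (k₁.base r).1 ∈ V).1.2 ⟨l.base r, h, ?_⟩
      rw [← Scheme.Hom.comp_apply, pullback.lift_fst_assoc, ← hc2, Category.assoc]
      rfl
    let l' := IsOpenImmersion.lift ρ l hl
    have hl' : l' ≫ L.ι ≫ pullback.diagonal c = l := IsOpenImmersion.lift_fac _ _ _
    have e1 := congrArg (· ≫ pullback.fst c c) hl'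
    have e2 := congrArg (· ≫ pullback.snd c c) hl'
    simp only [Category.assoc, pullback.diagonal_fst, pullback.diagonal_snd, l, pullback.lift_fst,
      pullback.lift_snd] at e1 e2
    rw [← e1, ← e2]⟩
  haveI := IsOpenImmersion.of_flat_of_mono (c ∣_ V)
  exact IsOpenImmersion.isIso (c ∣_ V)

end Groth.SteinComp
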